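import Mathlib

/-! Finite free resolutions of finite modules over Noetherian rings. -/

namespace Groth.Agent.NoethResolution

open CategoryTheory CategoryTheory.Limits

universe u

variable {B : Type u} [CommRing B] [IsNoetherianRing B]

/-- Finite modules. -/
abbrev Obj (B : Type u) [CommRing B] := {K : ModuleCat.{u} B // Module.Finite B K}

lemma step (K : Obj B) :
    ∃ (m : ℕ) (p : (Fin m → B) →ₗ[B] K.1), Function.Surjective p := by
  haveI := K.2
  exact Module.Finite.exists_fin' B K.1

/-- Rank of the chosen free module. -/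
noncomputable def rk (K : Obj B) : ℕ := (step K).choose

/-- The chosen cover. -/
noncomputable def cover (K : Obj B) : (Fin (rk K) → B) →ₗ[B] K.1 :=
  (step K).choose_spec.choose

lemma cover_surjective (K : Obj B) : Function.Surjective (cover K) :=
  (step K).choose_spec.choose_spec

/-- The syzygies. -/
noncomputable def syz (K : Obj B) :
    ℕ → Obj B
  | 0 => K
  | n + 1 => ⟨ModuleCat.of B (LinearMap.ker (cover (syz K n))),
      inferInstance⟩

variable (K : Obj B)

/-- The terms. -/
noncomputable abbrev F (n : ℕ) : ModuleCat.{u} B := ModuleCat.of B (Fin (rk (syz K n)) → B)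

/-- The differential. -/
noncomputable def dLin (n : ℕ) :
    (Fin (rk (syz K (n + 1))) → B) →ₗ[B] (Fin (rk (syz K n)) → B) :=
  (LinearMap.ker (cover (syz K n))).subtype ∘ₗ cover (syz K (n + 1))

lemma range_dLin (n : ℕ) : LinearMap.range (dLin K n) = LinearMap.ker (cover (syz K n)) := by
  apply le_antisymm
  · rintro _ ⟨x, rfl⟩
    exact (cover (syz K (n + 1)) x).2
  · intro x hx
    obtain ⟨y, hy⟩ := cover_surjective (syz K (n + 1)) ⟨x, hx⟩
    exact ⟨y, congrArg Subtype.val hy⟩

lemma ker_dLin (n : ℕ) : LinearMap.ker (dLin K n) = LinearMap.ker (cover (syz K (n + 1))) :=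
  LinearMap.ker_comp_of_ker_eq_bot _ (Submodule.ker_subtype _)

lemma d_comp_d (n : ℕ) : ModuleCat.ofHom (dLin K (n + 1)) ≫ ModuleCat.ofHom (dLin K n) = 0 := by
  ext1
  refine LinearMap.ext fun x => ?_
  show dLin K n (dLin K (n + 1) x) = 0
  rw [← LinearMap.mem_ker, ker_dLin, ← range_dLin]
  exact ⟨x, rfl⟩

/-- The complex. -/
noncomputable def cx : ChainComplex (ModuleCat.{u} B) ℕ :=
  ChainComplex.of (F K) (fun n => ModuleCat.ofHom (dLin K n)) (d_comp_d K)

lemma cx_d (n : ℕ) : (cx K).d (n + 1) n = ModuleCat.ofHom (dLin K n) := by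
  simp [cx]

theorem exists_resolution (M : Type u) [AddCommGroup M] [Module B M]
    [Module.Finite B M] :
    ∃ P : ProjectiveResolution (ModuleCat.of B M),
      ∀ n : ℕ, Module.Finite B (P.complex.X n) ∧ Module.Free B (P.complex.X n) := by
  let K : Obj B :=
    ⟨ModuleCat.of B M, ‹Module.Finite B M›⟩
  let φ : (cx K).X 0 ⟶ ModuleCat.of B M := ModuleCat.ofHom (cover (syz K 0))
  have hφ0 : (cx K).d 1 0 ≫ φ = 0 := by
    rw [show (cx K).d 1 0 = _ from cx_d K 0]
    ext1
    refine LinearMap.ext fun x => ?_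
    exact (range_dLin K 0).le ⟨x, rfl⟩
  haveI hφ : Epi φ := (ModuleCat.epi_iff_surjective _).2 (cover_surjective (syz K 0))
  have ex : (ShortComplex.mk ((cx K).d 1 0) φ hφ0).Exact := by
    rw [ShortComplex.moduleCat_exact_iff_range_eq_ker]
    show LinearMap.range ((cx K).d 1 0).hom = LinearMap.ker φ.hom
    rw [show (cx K).d 1 0 = _ from cx_d K 0]
    exact range_dLin K 0
  have hex : ∀ j : ℕ, (cx K).ExactAt (j + 1) := fun j => by
    rw [HomologicalComplex.exactAt_iff' _ (j + 1 + 1) (j + 1) j (by simp) (by simp),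
      ShortComplex.moduleCat_exact_iff_range_eq_ker]
    show LinearMap.range ((cx K).d (j + 1 + 1) (j + 1)).hom = LinearMap.ker ((cx K).d (j + 1) j).hom
    rw [cx_d, cx_d]
    exact (range_dLin K (j + 1)).trans (ker_dLin K j).symm
  let π : cx K ⟶ (ChainComplex.single₀ _).obj (ModuleCat.of B M) :=
    (ChainComplex.toSingle₀Equiv _ _).symm ⟨φ, hφ0⟩
  have hπ : QuasiIso π := ⟨fun n => by
    cases n
    · rw [ChainComplex.quasiIsoAt₀_iff, ShortComplex.quasiIso_iff_of_zeros']
      · refine (ShortComplex.exact_and_epi_g_iff_of_iso ?_).2 ⟨ex, hφ⟩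
        exact ShortComplex.isoMk (Iso.refl _) (Iso.refl _) (Iso.refl _)
          ((Category.id_comp _).trans (Category.comp_id _).symm) (by simp [π]; rfl)
      all_goals first | rfl | exact (cx K).shape _ _ (by simp)
    · rw [quasiIsoAt_iff_exactAt']
      · exact hex _
      · exact ChainComplex.exactAt_succ_single_obj _ _⟩
  refine ⟨{ complex := cx K
            projective := fun n => ?_
            π := π
            quasiIso := hπ }, fun n => ⟨?_, ?_⟩⟩
  · exact (IsProjective.iff_projective _).1 (inferInstanceAs (Module.Projective B (Fin (rk (syz K n)) → B)))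
  · exact inferInstanceAs (Module.Finite B (Fin (rk (syz K n)) → B))
  · exact inferInstanceAs (Module.Free B (Fin (rk (syz K n)) → B))

end Groth.Agent.NoethResolution
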